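import Groth.Agent.EtValLib.Decomposition
import Groth.Agent.Hensel.EtLikeNormal
import Mathlib

/-! Étale local algebras over valuation rings are valuation rings with the same values. -/

universe u

open Polynomial

namespace Groth.Agent.EtValLib

set_option linter.style.haveILetI false

variable (A B : Type u) [CommRing A] [IsDomain A] [ValuationRing A] [CommRing B] [Algebra A B]
  [Algebra.Etale A B] (m : Ideal B) [m.IsPrime]

theorem valuationRing_localization (hm : m.comap (algebraMap A B) = IsLocalRing.maximalIdeal A) :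
    IsDomain (Localization.AtPrime m) ∧ (∀ _ : IsDomain (Localization.AtPrime m), ValuationRing (Localization.AtPrime m)) ∧
    Function.Injective (algebraMap A (Localization.AtPrime m)) ∧ IsLocalHom (algebraMap A (Localization.AtPrime m)) ∧
    ∀ b : Localization.AtPrime m, b ≠ 0 → ∃ (a : A) (u : (Localization.AtPrime m)ˣ),
      b = u * algebraMap A (Localization.AtPrime m) a := by
  classical
  set W := Localization.AtPrime m
  have hloc : IsLocalHom (algebraMap A W) := ⟨fun a ha => by
    by_contra h
    have h1 : algebraMap A B a ∈ m := by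
      rw [← Ideal.mem_comap, hm]; exact (IsLocalRing.mem_maximalIdeal a).mpr h
    rw [IsScalarTower.algebraMap_apply A B W] at ha
    exact ((IsLocalization.AtPrime.isUnit_to_map_iff W m _).mp ha) h1⟩
  haveI := hloc
  haveI : Algebra.FormallyUnramified B W := Algebra.FormallyUnramified.of_isLocalization m.primeCompl
  haveI : Algebra.FormallyUnramified A W := Algebra.FormallyUnramified.comp A B W
  haveI : Module.Flat B W := IsLocalization.flat W m.primeCompl
  haveI : Algebra.EssFiniteType B W := Algebra.EssFiniteType.of_isLocalization W m.primeCompl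
  haveI : Algebra.EssFiniteType A W := Algebra.EssFiniteType.comp A B W
  haveI : Module.Flat A W := Module.Flat.trans A B W
  have hlike : Groth.Agent.Hensel.IsEtLike A W :=
    { flat := inferInstance
      map_max := Algebra.FormallyUnramified.map_maximalIdeal
      stage := fun s => by
        choose num hnum using fun w : W => IsLocalization.surj m.primeCompl w
        let g : B := ∏ w ∈ s, ((num w).2 : B)
        have hg : g ∉ m := (prod_mem (fun w _ => (num w).2.2) : g ∈ m.primeCompl)
        haveI : Algebra.Etale B (Localization.Away g) := inferInstance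
        haveI : Algebra.Etale A (Localization.Away g) := Algebra.Etale.comp A B _
        have hu : IsUnit (IsScalarTower.toAlgHom A B W g) := IsLocalization.map_units W (⟨g, hg⟩ : m.primeCompl)
        let θ : Localization.Away g →ₐ[A] W := IsLocalization.liftAlgHom (M := Submonoid.powers g) (f := IsScalarTower.toAlgHom A B W)
          (fun y => by obtain ⟨n, hn⟩ := y.2; rw [← hn]; simpa using hu.pow n)
        refine ⟨Localization.Away g, inferInstance, inferInstance, inferInstance, θ, fun w hw => ?_⟩
        refine ⟨IsLocalization.mk' (Localization.Away g) ((num w).1 * ∏ v ∈ s.erase w, ((num v).2 : B)) (⟨g, Submonoid.mem_powers g⟩ : Submonoid.powers g), ?_⟩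
        refine hu.mul_left_injective ?_
        show θ (IsLocalization.mk' _ _ _) * algebraMap B W g = w * algebraMap B W g
        have hθ : ∀ x : B, θ (algebraMap B _ x) = algebraMap B W x := fun x => by simp [θ]
        rw [← hθ g, ← map_mul, IsLocalization.mk'_spec' (Localization.Away g) _ (⟨g, Submonoid.mem_powers g⟩ : Submonoid.powers g) |> fun h => (mul_comm _ _).trans h,
          hθ, hθ, map_mul, ← hnum w, mul_assoc]
        congr 1
        rw [← map_mul]
        exact congrArg _ (Finset.mul_prod_erase s (fun v => ((num v).2 : B)) hw) }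
  obtain ⟨hdom, hic⟩ := hlike.isDomain_and_isIntegrallyClosed
  have hinj : Function.Injective (algebraMap A W) := hlike.algebraMap_injective
  refine ⟨hdom, ?_⟩
  -- a standard étale neighbourhood
  haveI : Algebra.IsEtaleAt A m := Algebra.FormallyEtale.comp A B W
  obtain ⟨g₀, hg₀, hstd⟩ := Algebra.IsEtaleAt.exists_isStandardEtale (R := A) m
  obtain ⟨P⟩ := hstd.nonempty_standardEtalePresentation
  let θ₀ : Localization.Away g₀ →ₐ[A] W := IsLocalization.liftAlgHom (M := Submonoid.powers g₀) (f := IsScalarTower.toAlgHom A B W)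
    (fun y => by obtain ⟨n, hn⟩ := y.2; rw [← hn]; simpa using (IsLocalization.map_units W (⟨g₀, hg₀⟩ : m.primeCompl)).pow n)
  let xW : W := θ₀ P.x
  have hmapW : P.P.HasMap xW := P.hasMap.map θ₀
  have hrep : ∀ w : W, ∃ (p q : A[X]), IsUnit (aeval xW q) ∧ w * aeval xW q = aeval xW p := by
    intro w
    obtain ⟨⟨b, t⟩, hbt⟩ := IsLocalization.surj m.primeCompl w
    obtain ⟨p, n, hp⟩ := P.exists_mul_aeval_x_g_pow_eq_aeval_x (algebraMap B (Localization.Away g₀) b)
    obtain ⟨q, k, hq⟩ := P.exists_mul_aeval_x_g_pow_eq_aeval_x (algebraMap B (Localization.Away g₀) (t : B))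
    have hθ : ∀ x : B, θ₀ (algebraMap B _ x) = algebraMap B W x := fun x => by simp [θ₀]
    have hpW : algebraMap B W b * aeval xW P.g ^ n = aeval xW p := by
      have := congrArg θ₀ hp
      rwa [map_mul, map_pow, hθ, ← aeval_algHom_apply, ← aeval_algHom_apply] at this
    have hqW : algebraMap B W t * aeval xW P.g ^ k = aeval xW q := by
      have := congrArg θ₀ hq
      rwa [map_mul, map_pow, hθ, ← aeval_algHom_apply, ← aeval_algHom_apply] at this
    refine ⟨p * P.g ^ k, q * P.g ^ n, ?_, ?_⟩
    · rw [map_mul, ← hqW, map_pow]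
      exact ((IsLocalization.map_units W t).mul (hmapW.2.pow k)).mul (hmapW.2.pow n)
    · rw [map_mul, map_mul, ← hqW, ← hpW, ← hbt, map_pow, map_pow]; ring
  let K := FractionRing A
  let M := FractionRing W
  haveI : FaithfulSMul A M := (faithfulSMul_iff_algebraMap_injective A M).mpr (by
    rw [IsScalarTower.algebraMap_eq A W M]; exact (IsFractionRing.injective W M).comp hinj)
  letI : Algebra K M := FractionRing.liftAlgebra A M
  haveI : IsScalarTower A K M := FractionRing.isScalarTower_liftAlgebra A M
  let x : M := algebraMap W M xW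
  have hxf : aeval x P.f = 0 := by rw [aeval_algebraMap_apply, hmapW.1, map_zero]
  have hxint : IsIntegral K x := IsIntegral.tower_top (R := A) ⟨P.f, P.monic_f, hxf⟩
  have hpx : ∀ p : A[X], algebraMap W M (aeval xW p) = aeval x (p.map (algebraMap A K)) := fun p => by
    rw [aeval_map_algebraMap, aeval_algebraMap_apply]
  have htop : IntermediateField.adjoin K {x} = ⊤ := by
    have hW : ∀ w : W, algebraMap W M w ∈ IntermediateField.adjoin K {x} := fun w => by
      obtain ⟨p, q, hq, hw⟩ := hrep w
      have h1 := congrArg (algebraMap W M) hw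
      rw [map_mul] at h1
      have hmem : ∀ r : A[X], algebraMap W M (aeval xW r) ∈ IntermediateField.adjoin K {x} := fun r => by
        rw [hpx]
        exact IntermediateField.algebra_adjoin_le_adjoin K _ (aeval_mem_adjoin_singleton K x)
      rw [← eq_div_iff ((map_ne_zero_iff _ (IsFractionRing.injective W M)).mpr hq.ne_zero)] at h1
      rw [h1]
      exact div_mem (hmem p) (hmem q)
    refine eq_top_iff.mpr fun z _ => ?_
    obtain ⟨a, b, -, rfl⟩ := IsFractionRing.div_surjective W z
    exact div_mem (hW a) (hW b)
  haveI : FiniteDimensional K M := by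
    haveI := IntermediateField.adjoin.finiteDimensional hxint
    exact Module.Finite.equiv ((IntermediateField.equivOfEq htop).trans IntermediateField.topEquiv).toLinearEquiv
  -- valuation ring
  have hval : ∀ hd : IsDomain W, ValuationRing W := fun _ => by
    rw [ValuationRing.iff_isInteger_or_isInteger W M]
    intro z
    obtain ⟨Q, ⟨i, hi⟩, hQ⟩ := exists_primitive (A := A) (K := K) z
    obtain ⟨a, b, hab, h⟩ := seidenberg (IsLocalRing.maximalIdeal W) z (Q.map (algebraMap A W)).natDegree (Q.map (algebraMap A W)) le_rfl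
      ⟨i, by rw [coeff_map]; exact fun hmem => (IsLocalRing.mem_maximalIdeal _).mp hmem (hi.map _)⟩
      (by rw [aeval_map_algebraMap]; exact hQ)
    rcases h with h | h
    · obtain ⟨b, rfl⟩ := IsLocalRing.notMem_maximalIdeal.mp h
      refine Or.inl ⟨a * ↑b⁻¹, ?_⟩
      rw [map_mul, ← hab, mul_assoc, ← map_mul, Units.mul_inv, map_one, mul_one]
    · obtain ⟨a, rfl⟩ := IsLocalRing.notMem_maximalIdeal.mp h
      refine Or.inr ⟨b * ↑a⁻¹, eq_inv_of_mul_eq_one_right ?_⟩
      rw [map_mul, ← mul_assoc, hab, ← map_mul, Units.mul_inv, map_one]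
  refine ⟨hval, hinj, hloc, ?_⟩
  haveI := hval hdom
  haveI : Algebra.IsSeparable K M := by
    have hx : IsSeparable K x := by
      have hdvd := minpoly.dvd K x (p := P.f.map (algebraMap A K)) (by rw [aeval_map_algebraMap]; exact hxf)
      refine (Polynomial.separable_iff_derivative_ne_zero (minpoly.irreducible hxint)).mpr fun hder => ?_
      obtain ⟨q, hq⟩ := hdvd
      have hne : aeval x (derivative (P.f.map (algebraMap A K))) ≠ 0 := by
        rw [derivative_map, ← hpx]
        exact (map_ne_zero_iff _ (IsFractionRing.injective W M)).mpr hmapW.isUnit_derivative_f.ne_zero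
      exact hne (by rw [hq, derivative_mul, hder, zero_mul, zero_add, map_mul, minpoly.aeval, zero_mul])
    haveI := IntermediateField.isSeparable_adjoin_simple_iff_isSeparable K M |>.mpr hx
    exact AlgEquiv.Algebra.isSeparable ((IntermediateField.equivOfEq htop).trans IntermediateField.topEquiv)
  let L := IntermediateField.normalClosure K M (AlgebraicClosure M)
  haveI : Algebra.IsSeparable K (IntermediateField.normalClosure K M (AlgebraicClosure M)) := by
    haveI : ∀ f : M →ₐ[K] AlgebraicClosure M, Algebra.IsSeparable K f.fieldRange := fun f =>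
      AlgEquiv.Algebra.isSeparable (AlgEquiv.ofInjectiveField f)
    exact IntermediateField.isSeparable_iSup (F := K) (E := AlgebraicClosure M) (t := fun f : M →ₐ[K] AlgebraicClosure M => f.fieldRange)
  haveI : IsGalois K L := ⟨⟩
  haveI : FiniteDimensional K L := normalClosure.is_finiteDimensional K M (AlgebraicClosure M)
  let ι : M →ₐ[K] L := IsScalarTower.toAlgHom K M L
  letI : Algebra A L := ((algebraMap K L).comp (algebraMap A K)).toAlgebra
  haveI : IsScalarTower A K L := IsScalarTower.of_algebraMap_eq fun _ => rfl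
  let φ : W →+* L := ι.toRingHom.comp (algebraMap W M)
  have hφA : ∀ a : A, φ (algebraMap A W a) = algebraMap A L a := fun a => by
    show ι (algebraMap W M (algebraMap A W a)) = _
    rw [← IsScalarTower.algebraMap_apply A W M, IsScalarTower.algebraMap_apply A K M, ι.commutes]
    rfl
  have hφinj : Function.Injective φ := fun u v h => IsFractionRing.injective W M (ι.injective h)
  obtain ⟨V, hV, hVloc⟩ := IsLocalRing.exists_factor_valuationRing φ
  have hone : ∀ w : W, V.valuation (φ w) ≤ 1 := fun w => (V.valuation_le_one_iff _).mpr (hV w)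
  have hlt : ∀ w : W, V.valuation (φ w) < 1 ↔ ¬ IsUnit w := fun w => by
    rw [show φ w = ((φ.codRestrict V.toSubring hV w : V) : L) from rfl, ← V.valuation_lt_one_iff, IsLocalRing.mem_maximalIdeal]
    exact not_congr (isUnit_map_iff (φ.codRestrict V.toSubring hV) w)
  have heq1 : ∀ w : W, IsUnit w → V.valuation (φ w) = 1 := fun w hw => le_antisymm (hone w) (not_lt.mp fun h => (hlt w).mp h hw)
  intro b hb
  obtain ⟨p, q, hq, hpq⟩ := hrep b
  have hφp : ∀ r : A[X], φ (aeval xW r) = aeval (φ xW) (r.map (algebraMap A K)) := fun r => by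
    show ι (algebraMap W M (aeval xW r)) = _
    rw [hpx, ← aeval_algHom_apply]
    rfl
  obtain ⟨c, hc⟩ := exists_value_aeval (A := A) (K := K) (V := V) (fun a => by rw [← hφA]; exact hone _)
    (fun a ha => by rw [← hφA, hlt]; exact fun h => (IsLocalRing.mem_maximalIdeal a).mp ha (isUnit_of_map_unit _ _ h))
    P.monic_f (x := φ xW) (by rw [← aeval_map_algebraMap K, ← hφp, hmapW.1, map_zero])
    (by rw [← aeval_map_algebraMap K, ← hφp]; exact heq1 _ hmapW.isUnit_derivative_f)
    (p.map (algebraMap A K)) (by
      rw [← hφp, ← hpq, map_mul]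
      refine mul_ne_zero ?_ ?_
      · exact (map_ne_zero_iff _ hφinj).mpr hb
      · exact (map_ne_zero_iff _ hφinj).mpr hq.ne_zero)
  have hvb : V.valuation (φ b) = V.valuation (algebraMap K L c) := by
    rw [← hc, ← hφp, ← hpq, map_mul, map_mul, heq1 _ hq, mul_one]
  obtain ⟨a, ha⟩ : ∃ a : A, V.valuation (φ b) = V.valuation (φ (algebraMap A W a)) := by
    rcases ValuationRing.isInteger_or_isInteger A c with ⟨a, ha⟩ | ⟨a, ha⟩
    · exact ⟨a, by rw [hvb, hφA, ← ha, ← IsScalarTower.algebraMap_apply]⟩
    · by_cases hau : IsUnit a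
      · refine ⟨(hau.unit⁻¹ : Aˣ), ?_⟩
        rw [hvb, hφA, IsScalarTower.algebraMap_apply A K L, map_units_inv (algebraMap A K) hau.unit, IsUnit.unit_spec, ha, inv_inv]
      · exfalso
        have hcv : 0 < V.valuation (algebraMap K L c) := by
          rw [← hvb]
          exact zero_lt_iff.mpr ((Valuation.ne_zero_iff _).mpr ((map_ne_zero_iff _ hφinj).mpr hb))
        have h1 : V.valuation (φ (algebraMap A W a)) < 1 := (hlt _).mpr fun h => hau (isUnit_of_map_unit _ _ h)
        rw [hφA, IsScalarTower.algebraMap_apply A K L, ha, map_inv₀, map_inv₀, inv_lt_one₀ hcv, ← hvb] at h1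
        exact absurd h1 (not_lt.mpr (hone b))
  rcases ValuationRing.dvd_total (algebraMap A W a) b with ⟨w, hw⟩ | ⟨w, hw⟩
  · have hu : IsUnit w := by
      by_contra h
      have h1 : V.valuation (φ b) < V.valuation (φ (algebraMap A W a)) := by
        rw [hw, map_mul, map_mul]
        refine mul_lt_of_lt_one_right ?_ ((hlt w).mpr h)
        exact zero_lt_iff.mpr ((Valuation.ne_zero_iff _).mpr ((map_ne_zero_iff _ hφinj).mpr fun h0 => hb (by rw [hw, h0, zero_mul])))
      exact absurd ha h1.ne
    exact ⟨a, hu.unit, by rw [hw, IsUnit.unit_spec, mul_comm]⟩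
  · have hu : IsUnit w := by
      by_contra h
      have h1 : V.valuation (φ (algebraMap A W a)) < V.valuation (φ b) := by
        rw [hw, map_mul, map_mul]
        refine mul_lt_of_lt_one_right ?_ ((hlt w).mpr h)
        exact zero_lt_iff.mpr ((Valuation.ne_zero_iff _).mpr ((map_ne_zero_iff _ hφinj).mpr hb))
      exact absurd ha h1.ne'
    exact ⟨a, hu.unit⁻¹, by rw [hw, mul_comm b, ← mul_assoc, IsUnit.val_inv_mul, one_mul]⟩

end Groth.Agent.EtValLib
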