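import Mathlib

/-! Values of an unramified extension of a valued field: nothing new. -/

universe u

open Polynomial

namespace Groth.Agent.EtValLib

section Gauss

variable {L : Type*} [Field L] {Γ₀ : Type*} [LinearOrderedCommGroupWithZero Γ₀] (v : Valuation L Γ₀) (t : Γ₀)

/-- The term of index `i` strictly dominates `P` at radius `t`. -/
def Dominant (P : L[X]) (i : ℕ) : Prop :=
  P.coeff i ≠ 0 ∧ ∀ j, j ≠ i → v (P.coeff j) * t ^ j < v (P.coeff i) * t ^ i

lemma dominant_pos {P : L[X]} {i : ℕ} (ht : t ≠ 0) (h : Dominant v t P i) : 0 < v (P.coeff i) * t ^ i :=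
  zero_lt_iff.mpr (mul_ne_zero ((v.ne_zero_iff).mpr h.1) (pow_ne_zero _ ht))

lemma dominant_mul {P Q : L[X]} {i j : ℕ} (ht : t ≠ 0) (hP : Dominant v t P i) (hQ : Dominant v t Q j) :
    Dominant v t (P * Q) (i + j) := by
  classical
  have key : ∀ x : ℕ × ℕ, x ≠ (i, j) →
      v (P.coeff x.1 * Q.coeff x.2) * t ^ (x.1 + x.2) < v (P.coeff i * Q.coeff j) * t ^ (i + j) := by
    rintro ⟨a, b⟩ hx
    rw [map_mul, map_mul, pow_add, pow_add, mul_mul_mul_comm, mul_mul_mul_comm (v (P.coeff i))]
    by_cases ha : a = i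
    · have hb : b ≠ j := fun hb => hx (by rw [ha, hb])
      rw [ha]
      exact mul_lt_mul_of_pos_left (hQ.2 b hb) (dominant_pos v t ht hP)
    · refine lt_of_le_of_lt (mul_le_mul_of_nonneg_left ?_ zero_le) (mul_lt_mul_of_pos_right (hP.2 a ha) (dominant_pos v t ht hQ))
      rcases eq_or_ne b j with rfl | hb
      · exact le_rfl
      · exact (hQ.2 b hb).le
  have hmain : v ((P * Q).coeff (i + j)) = v (P.coeff i * Q.coeff j) := by
    rw [coeff_mul]
    refine Valuation.map_sum_eq_of_lt v (Finset.HasAntidiagonal.mem_antidiagonal.mpr (rfl : (i, j).1 + (i, j).2 = i + j))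
      (fun x hx => ?_)
    obtain ⟨hx1, hx2⟩ := Finset.mem_sdiff.mp hx
    have h := key x (by simpa using hx2)
    rw [Finset.HasAntidiagonal.mem_antidiagonal.mp hx1] at h
    exact lt_of_mul_lt_mul_of_nonneg_right h zero_le
  refine ⟨fun h0 => mul_ne_zero hP.1 hQ.1 ((v.zero_iff).mp (by rw [← hmain, h0, map_zero])), fun k hk => ?_⟩
  rw [hmain, coeff_mul]
  have hpos : 0 < v (P.coeff i * Q.coeff j) * t ^ (i + j) :=
    zero_lt_iff.mpr (mul_ne_zero ((v.ne_zero_iff).mpr (mul_ne_zero hP.1 hQ.1)) (pow_ne_zero _ ht))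
  have htk : (0 : Γ₀) < t ^ k := zero_lt_iff.mpr (pow_ne_zero _ ht)
  rw [← lt_div_iff₀ htk]
  refine v.map_sum_lt (ne_of_gt (div_pos hpos htk)) fun x hx => ?_
  rw [lt_div_iff₀ htk, ← Finset.HasAntidiagonal.mem_antidiagonal.mp hx]
  exact key x fun h => hk (by rw [← Finset.HasAntidiagonal.mem_antidiagonal.mp hx, h])

lemma exists_dominant_X_sub_C (ht : t ≠ 0) {r : L} (h : v r ≠ t) : ∃ i, Dominant v t (X - C r) i := by
  rcases lt_or_gt_of_ne h with h | h
  · refine ⟨1, by simp, fun j hj => ?_⟩
    rcases j with _ | _ | j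
    · simpa using h
    · exact absurd rfl hj
    · have : ((X - C r : L[X])).coeff (j + 1 + 1) = 0 := coeff_eq_zero_of_natDegree_lt (by rw [natDegree_X_sub_C]; omega)
      simpa [this] using zero_lt_iff.mpr ht
  · refine ⟨0, by simpa using (v.ne_zero_iff).mp (ne_of_gt (lt_of_le_of_lt zero_le h)), fun j hj => ?_⟩
    rcases j with _ | _ | j
    · exact absurd rfl hj
    · simpa using h
    · have : ((X - C r : L[X])).coeff (j + 1 + 1) = 0 := coeff_eq_zero_of_natDegree_lt (by rw [natDegree_X_sub_C]; omega)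
      have h0 : (0 : Γ₀) < v r := lt_of_le_of_lt zero_le h
      simpa [this] using h0

lemma exists_dominant_prod (ht : t ≠ 0) (s : Multiset L) (h : ∀ r ∈ s, v r ≠ t) :
    ∃ i, Dominant v t (s.map fun r => X - C r).prod i := by
  induction s using Multiset.induction with
  | empty =>
    refine ⟨0, by simp, fun j hj => ?_⟩
    simp [coeff_one, hj]
  | cons a s ih =>
    obtain ⟨i, hi⟩ := ih fun r hr => h r (Multiset.mem_cons_of_mem hr)
    obtain ⟨j, hj⟩ := exists_dominant_X_sub_C v t ht (h a (Multiset.mem_cons_self a s))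
    exact ⟨j + i, by rw [Multiset.map_cons, Multiset.prod_cons]; exact dominant_mul v t ht hj hi⟩

/-- A root whose value is shared by no other root has the value of a ratio of coefficients. -/
lemma value_of_unique_root {y : L} {Q : L[X]} {i : ℕ} (hy : y ≠ 0) (hQ : Dominant v (v y) Q i) :
    ((X - C y) * Q).coeff (i + 1) ≠ 0 ∧
      v y * v (((X - C y) * Q).coeff (i + 1)) = v (((X - C y) * Q).coeff i) := by
  set t := v y with ht'
  have ht : t ≠ 0 := (v.ne_zero_iff).mpr hy
  have hs : ∀ n, ((X - C y) * Q).coeff (n + 1) = Q.coeff n - y * Q.coeff (n + 1) := fun n => by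
    rw [sub_mul, coeff_sub, coeff_X_mul, coeff_C_mul]
  have h1 : v (((X - C y) * Q).coeff (i + 1)) = v (Q.coeff i) := by
    rw [hs]
    refine v.map_sub_eq_of_lt_left ?_
    rw [map_mul, ← ht']
    refine lt_of_mul_lt_mul_of_nonneg_right (a := t ^ i) ?_ zero_le
    rw [mul_comm t, mul_assoc, ← pow_succ']
    exact hQ.2 (i + 1) (by omega)
  refine ⟨fun h0 => (v.ne_zero_iff).mpr hQ.1 (by rw [← h1, h0, map_zero]), ?_⟩
  rw [h1]
  rcases i with _ | n
  · rw [sub_mul, coeff_sub, coeff_X_mul_zero, coeff_C_mul, zero_sub, Valuation.map_neg, map_mul]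
  · rw [hs, v.map_sub_eq_of_lt_right, map_mul]
    rw [map_mul, ← ht']
    refine lt_of_mul_lt_mul_of_nonneg_right (a := t ^ n) ?_ zero_le
    rw [mul_comm t, mul_assoc, ← pow_succ']
    exact hQ.2 n (by omega)

end Gauss

section Seidenberg

/-- Over an integrally closed subring `O` and a prime `n`, a root of a polynomial with a coefficient
outside `n` is a fraction with denominator, or numerator, outside `n`. -/
lemma seidenberg {R L : Type*} [CommRing R] [Field L] [Algebra R L] [IsIntegrallyClosedIn R L]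
    (n : Ideal R) [n.IsPrime] (z : L) :
    ∀ (N : ℕ) (P : R[X]), P.natDegree ≤ N → (∃ i, P.coeff i ∉ n) → aeval z P = 0 →
      ∃ a b : R, z * algebraMap R L b = algebraMap R L a ∧ (b ∉ n ∨ a ∉ n) := by
  intro N
  induction N with
  | zero =>
    rintro P hP ⟨i, hi⟩ h0
    exfalso
    rw [eq_C_of_natDegree_le_zero hP, aeval_C, map_eq_zero_iff _ ((isIntegrallyClosedIn_iff (R := R) (A := L)).mp inferInstance).1] at h0
    rcases Nat.eq_zero_or_pos i with rfl | hi'
    · exact hi (h0 ▸ n.zero_mem)
    · exact hi (by rw [coeff_eq_zero_of_natDegree_lt (by omega)]; exact n.zero_mem)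
  | succ N ih =>
    intro P hP hex h0
    by_cases hN : P.natDegree ≤ N
    · exact ih P hN hex h0
    have hd : P.natDegree = N + 1 := by omega
    have hint : IsIntegral R (P.leadingCoeff • z) := isIntegral_leadingCoeff_smul P z h0
    obtain ⟨u, hu⟩ := IsIntegrallyClosedIn.algebraMap_eq_of_integral hint
    rw [Algebra.smul_def, mul_comm] at hu
    by_cases hc : P.leadingCoeff ∈ n
    swap
    · exact ⟨u, _, hu.symm, Or.inl hc⟩
    by_cases hu' : u ∈ n
    swap
    · exact ⟨u, _, hu.symm, Or.inr hu'⟩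
    let P' : R[X] := P.eraseLead + C u * X ^ N
    have hd' : P'.natDegree ≤ N :=
      (natDegree_add_le _ _).trans (max_le ((eraseLead_natDegree_le P).trans (by omega)) (natDegree_C_mul_X_pow_le u N))
    refine ih P' hd' ?_ ?_
    · obtain ⟨i, hi⟩ := hex
      have hiN : i ≠ N + 1 := fun h => hi (by rw [h, ← hd]; exact hc)
      refine ⟨i, fun h => hi ?_⟩
      simp only [P', coeff_add, coeff_C_mul_X_pow, eraseLead_coeff, hd, if_neg hiN] at h
      split at h
      · simpa using n.sub_mem h hu'
      · simpa using h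
    · have hsplit := congrArg (aeval z) (eraseLead_add_C_mul_X_pow P)
      rw [map_add, h0, map_mul, aeval_C, map_pow, aeval_X, hd, pow_succ'] at hsplit
      simp only [P', map_add, map_mul, aeval_C, map_pow, aeval_X, hu]
      linear_combination hsplit

end Seidenberg

section Galois

variable {A K L : Type*} [CommRing A] [IsDomain A] [ValuationRing A] [Field K] [Algebra A K] [IsFractionRing A K]
  [Field L] [Algebra K L] [Algebra A L] [IsScalarTower A K L] (V : ValuationSubring L)

/-- Automorphisms over `K` preserving the centre of `V` on the integral closure. -/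
def Fixes (V : ValuationSubring L) (A : Type*) [CommRing A] [Algebra A L] (τ : L → L) : Prop :=
  ∀ o : L, IsIntegral A o → (V.valuation o < 1 ↔ V.valuation (τ o) < 1)

variable {V} (hAV : ∀ a : A, V.valuation (algebraMap A L a) ≤ 1)

include hAV in
lemma valuation_integral_le {o : L} (ho : IsIntegral A o) : V.valuation o ≤ 1 := by
  let φ : A →+* V := (algebraMap A L).codRestrict V.toSubring fun a => (V.valuation_le_one_iff _).mp (hAV a)
  obtain ⟨P, hP, hP0⟩ := ho
  have hint : IsIntegral V o := ⟨P.map φ, hP.map φ, by rw [eval₂_map]; exact hP0⟩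
  obtain ⟨y, hy⟩ := IsIntegrallyClosed.isIntegral_iff.mp hint
  rw [← hy]
  exact V.valuation_le_one y

include K

lemma exists_primitive [FiniteDimensional K L] (z : L) :
    ∃ P : A[X], (∃ i, IsUnit (P.coeff i)) ∧ aeval z P = 0 := by
  classical
  have hz : IsIntegral K z := IsIntegral.of_finite K z
  obtain ⟨b, hb⟩ := IsLocalization.integerNormalization_spec (nonZeroDivisors A) (minpoly K z)
  set P := IsLocalization.integerNormalization (nonZeroDivisors A) (minpoly K z)
  obtain ⟨hbM, hb⟩ := hb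
  have hP : aeval z P = 0 := by
    rw [← aeval_map_algebraMap K, hb, Algebra.smul_def, map_mul, minpoly.aeval, mul_zero]
  have hP0 : P ≠ 0 := fun h => by
    rw [h, Polynomial.map_zero, eq_comm, smul_eq_zero] at hb
    rcases hb with hb | hb
    · exact (nonZeroDivisors.ne_zero hbM) hb
    · exact minpoly.ne_zero hz hb
  obtain ⟨i, hi, hmin⟩ : ∃ i ∈ P.support, ∀ j ∈ P.support, P.coeff i ∣ P.coeff j := by
    have hs : P.support.Nonempty := support_nonempty.mpr hP0
    generalize P.support = t at hs ⊢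
    induction hs using Finset.Nonempty.cons_induction with
    | singleton a => exact ⟨a, by simp, fun j hj => by rw [Finset.mem_singleton.mp hj]⟩
    | cons a s ha hs ih =>
      obtain ⟨i, hi, hmin⟩ := ih
      rcases ValuationRing.dvd_total (P.coeff i) (P.coeff a) with h' | h'
      · exact ⟨i, Finset.mem_cons_of_mem hi, fun j hj => (Finset.mem_cons.mp hj).elim (fun e => e ▸ h') (hmin j)⟩
      · exact ⟨a, Finset.mem_cons_self a s, fun j hj => (Finset.mem_cons.mp hj).elim (fun e => e ▸ dvd_rfl) (fun hj => h'.trans (hmin j hj))⟩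
  have hall : C (P.coeff i) ∣ P := C_dvd_iff_dvd_coeff _ _ |>.mpr fun j => by
    by_cases hj : j ∈ P.support
    · exact hmin j hj
    · rw [notMem_support_iff.mp hj]; exact dvd_zero _
  obtain ⟨P', hP'⟩ := hall
  have hci : P.coeff i ≠ 0 := mem_support_iff.mp hi
  refine ⟨P', ⟨i, ?_⟩, ?_⟩
  · have h := congrArg (coeff · i) hP'
    simp only [coeff_C_mul] at h
    exact IsUnit.of_mul_eq_one (1 : A) (by rw [mul_one]; exact mul_left_cancel₀ hci (h.symm.trans (mul_one _).symm))
  · rw [hP', map_mul, aeval_C, mul_eq_zero] at hP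
    refine hP.resolve_left fun h => hci ?_
    rw [IsScalarTower.algebraMap_apply A K L, map_eq_zero_iff _ (algebraMap K L).injective,
      map_eq_zero_iff _ (IsFractionRing.injective A K)] at h
    exact h

variable [FiniteDimensional K L]

include hAV in
/-- Elements of `V` are fractions with denominator outside the centre. -/
lemma exists_fraction {z : L} (hz : V.valuation z ≤ 1) :
    ∃ a b : L, IsIntegral A a ∧ IsIntegral A b ∧ V.valuation b = 1 ∧ z * b = a := by
  obtain ⟨P, ⟨i, hi⟩, hP⟩ := exists_primitive (A := A) (K := K) z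
  let O := integralClosure A L
  let φ : O →+* V := O.val.toRingHom.codRestrict V.toSubring fun o => (V.valuation_le_one_iff _).mp (valuation_integral_le hAV o.2)
  let n : Ideal O := (IsLocalRing.maximalIdeal V).comap φ
  obtain ⟨a, b, hab, h⟩ := seidenberg n z (P.map (algebraMap A O)).natDegree (P.map (algebraMap A O)) le_rfl
    ⟨i, fun hmem => (Ideal.IsPrime.ne_top inferInstance : n ≠ ⊤) (n.eq_top_of_isUnit_mem (by rwa [coeff_map] at hmem) (hi.map _))⟩
    (by rw [aeval_map_algebraMap]; exact hP)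
  have hn : ∀ o : O, o ∉ n → V.valuation (o : L) = 1 := fun o ho => by
    have h1 : IsUnit (φ o) := IsLocalRing.notMem_maximalIdeal.mp ho
    exact (V.valuation_eq_one_iff (φ o)).mp h1
  refine ⟨a, b, a.2, b.2, ?_, hab⟩
  rcases h with h | h
  · exact hn b h
  · refine le_antisymm (valuation_integral_le hAV b.2) ?_
    have h1 : V.valuation z * V.valuation (b : L) = 1 := by rw [← map_mul]; exact (congrArg V.valuation hab).trans (hn a h)
    calc (1 : V.ValueGroup) = V.valuation z * V.valuation (b : L) := h1.symm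
      _ ≤ V.valuation (b : L) := mul_le_of_le_one_left' hz

include hAV in
lemma valuation_map_le {τ : L ≃ₐ[K] L} (hτ : Fixes V A τ) {z : L} (hz : V.valuation z ≤ 1) :
    V.valuation (τ z) ≤ 1 := by
  obtain ⟨a, b, ha, hb, hb1, hab⟩ := exists_fraction (K := K) hAV hz
  have hb' : V.valuation (τ b) = 1 := le_antisymm (valuation_integral_le hAV (hb.map (τ.toAlgHom.restrictScalars A)))
    (not_lt.mp fun h => absurd ((hτ b hb).mpr h) (by rw [hb1]; exact lt_irrefl 1))
  have h1 : V.valuation (τ z) = V.valuation (τ a) := by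
    rw [← hab, map_mul, map_mul, hb', mul_one]
  rw [h1]
  exact valuation_integral_le hAV (ha.map (τ.toAlgHom.restrictScalars A))

include hAV in
lemma valuation_map_eq {τ : L ≃ₐ[K] L} (hτ : Fixes V A τ) (z : L) : V.valuation (τ z) = V.valuation z := by
  have key : ∀ x : L, V.valuation (τ x) ≤ V.valuation x → ∀ k : ℕ, V.valuation ((τ ^ (k + 1)) x) ≤ V.valuation (τ x) := by
    intro x hx k
    rcases eq_or_ne x 0 with rfl | hx0
    · simp
    have hmono : ∀ y : L, V.valuation y ≤ V.valuation x → V.valuation (τ y) ≤ V.valuation (τ x) := fun y hy => by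
      have h0 : 0 < V.valuation x := zero_lt_iff.mpr (by simpa using hx0)
      have h1 := valuation_map_le (K := K) hAV hτ (z := y / x) (by rw [map_div₀, div_le_one₀ h0]; exact hy)
      rwa [map_div₀, map_div₀, div_le_one₀ (zero_lt_iff.mpr (by simpa using hx0))] at h1
    induction k with
    | zero => simp
    | succ k ih =>
      rw [pow_succ', AlgEquiv.mul_apply]
      exact hmono _ (ih.trans hx)
  obtain ⟨k, hk⟩ : ∃ k : ℕ, τ ^ (k + 1) = 1 := by
    obtain ⟨n, hn, h⟩ := (isOfFinOrder_of_finite τ).exists_pow_eq_one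
    exact ⟨n - 1, by rwa [Nat.sub_add_cancel hn]⟩
  have h1 : ∀ x : L, V.valuation (τ x) ≤ V.valuation x → V.valuation (τ x) = V.valuation x := fun x hx =>
    le_antisymm hx (by simpa [hk] using key x hx k)
  rcases le_total (V.valuation (τ z)) (V.valuation z) with h | h
  · exact h1 z h
  · rcases eq_or_ne z 0 with rfl | hz0
    · simp
    have h2 := h1 z⁻¹ (by rw [map_inv₀, map_inv₀, map_inv₀]; exact inv_anti₀ (zero_lt_iff.mpr (by simpa using hz0)) h)
    rwa [map_inv₀, map_inv₀, map_inv₀, inv_inj] at h2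

variable [IsGalois K L] (hAloc : ∀ a : A, a ∈ IsLocalRing.maximalIdeal A → V.valuation (algebraMap A L a) < 1)

include hAV hAloc in
/-- The decomposition field has the same values. -/
theorem exists_value_of_fixed (z : L) (hz : z ≠ 0) (hfix : ∀ τ : L ≃ₐ[K] L, Fixes V A τ → τ z = z) :
    ∃ a : K, a ≠ 0 ∧ V.valuation z = V.valuation (algebraMap K L a) := by
  classical
  haveI : Fintype (L ≃ₐ[K] L) := Fintype.ofFinite _
  let O := integralClosure A L
  let φ : O →+* V := O.val.toRingHom.codRestrict V.toSubring fun o => (V.valuation_le_one_iff _).mp (valuation_integral_le hAV o.2)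
  let n : Ideal O := (IsLocalRing.maximalIdeal V).comap φ
  have hn : ∀ o : O, o ∈ n ↔ V.valuation (o : L) < 1 := fun o => V.valuation_lt_one_iff (φ o)
  have hnm : n.IsMaximal := by
    refine Ideal.isMaximal_of_isIntegral_of_isMaximal_comap (R := A) n ?_
    have hle : IsLocalRing.maximalIdeal A ≤ n.under A := fun a ha => (hn _).mpr (hAloc a ha)
    have hne : n.under A ≠ ⊤ := fun h => (Ideal.IsPrime.ne_top inferInstance : n ≠ ⊤) (Ideal.comap_eq_top_iff.mp h)
    show (n.under A).IsMaximal
    rw [← (IsLocalRing.maximalIdeal.isMaximal A).eq_of_le hne hle]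
    infer_instance
  let act : (L ≃ₐ[K] L) → O → O := fun σ o => ⟨σ (o : L), o.2.map (σ.toAlgHom.restrictScalars A)⟩
  have hsep : ∀ σ : L ≃ₐ[K] L, ¬ Fixes V A σ → ∃ y : O, y ∉ n ∧ act σ y ∈ n := by
    intro σ hσ
    by_contra hne
    push Not at hne
    let σO : O →+* O := ((σ.toAlgHom.restrictScalars A).comp O.val).toRingHom.codRestrict O.toSubring fun o => (act σ o).2
    have hle : n.comap σO ≤ n := fun y hy => by
      by_contra hy'
      exact hne y hy' hy
    have hm : (n.comap σO).IsMaximal :=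
      Ideal.comap_isMaximal_of_surjective σO fun o => ⟨act σ.symm o, Subtype.ext (σ.apply_symm_apply _)⟩
    have heq := hm.eq_of_le hnm.ne_top hle
    refine hσ fun o ho => ?_
    rw [← hn ⟨o, ho⟩, ← hn (act σ ⟨o, ho⟩)]
    conv_lhs => rw [← heq]
    rfl
  choose ys hys1 hys2 using hsep
  let y : O := ∏ σ : {σ : L ≃ₐ[K] L // ¬ Fixes V A σ}, ys σ.1 σ.2
  have hy1 : V.valuation (y : L) = 1 := by
    rw [SubmonoidClass.coe_finsetProd, map_prod]
    exact Finset.prod_eq_one fun σ _ => le_antisymm (valuation_integral_le hAV (ys σ.1 σ.2).2) (not_lt.mp fun h => hys1 σ.1 σ.2 ((hn _).mpr h))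
  have hy2 : ∀ σ : L ≃ₐ[K] L, ¬ Fixes V A σ → V.valuation (σ (y : L)) < 1 := by
    intro σ hσ
    rw [SubmonoidClass.coe_finsetProd, map_prod, map_prod]
    rw [← Finset.mul_prod_erase Finset.univ _ (Finset.mem_univ (⟨σ, hσ⟩ : {σ : L ≃ₐ[K] L // ¬ Fixes V A σ}))]
    refine mul_lt_one_of_lt_of_le ((hn _).mp (hys2 σ hσ)) (Finset.prod_le_one (fun _ _ => zero_le) fun τ _ => ?_)
    exact valuation_integral_le hAV ((ys τ.1 τ.2).2.map (σ.toAlgHom.restrictScalars A))
  -- the stabiliser
  have hone : Fixes V A ((1 : L ≃ₐ[K] L)) := fun o _ => Iff.rfl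
  have hmul : ∀ σ τ : L ≃ₐ[K] L, Fixes V A σ → Fixes V A τ → Fixes V A ⇑(σ * τ) := fun σ τ hσ hτ o ho =>
    (hτ o ho).trans (hσ (τ o) (ho.map (τ.toAlgHom.restrictScalars A)))
  have hinv : ∀ σ : L ≃ₐ[K] L, Fixes V A σ → Fixes V A ⇑σ⁻¹ := fun σ hσ o ho => by
    have h := hσ (σ⁻¹ o) (ho.map ((σ⁻¹).toAlgHom.restrictScalars A))
    rw [show σ (σ⁻¹ o) = o from σ.apply_symm_apply o] at h
    exact h.symm
  let D : Subgroup (L ≃ₐ[K] L) := { carrier := {σ | Fixes V A σ}, mul_mem' := fun ha hb => hmul _ _ ha hb, one_mem' := hone, inv_mem' := fun ha => hinv _ ha }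
  let c : L := ∏ τ : D, τ.1 (y : L)
  have hc1 : V.valuation c = 1 := by
    rw [map_prod]
    exact Finset.prod_eq_one fun τ _ => (valuation_map_eq (K := K) hAV τ.2 _).trans hy1
  have hcfix : ∀ τ : L ≃ₐ[K] L, Fixes V A τ → τ c = c := fun τ hτ => by
    rw [map_prod]
    exact Fintype.prod_equiv (Equiv.mulLeft (⟨τ, hτ⟩ : D)) _ _ fun _ => rfl
  have hc2 : ∀ σ : L ≃ₐ[K] L, ¬ Fixes V A σ → V.valuation (σ c) < 1 := fun σ hσ => by
    rw [map_prod, map_prod, ← Finset.mul_prod_erase Finset.univ _ (Finset.mem_univ (1 : D))]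
    refine mul_lt_one_of_lt_of_le (hy2 σ hσ) (Finset.prod_le_one (fun _ _ => zero_le) fun τ _ => ?_)
    exact valuation_integral_le hAV ((y.2.map (τ.1.toAlgHom.restrictScalars A)).map (σ.toAlgHom.restrictScalars A))
  have hc0 : c ≠ 0 := fun h => by rw [h, map_zero] at hc1; exact zero_ne_one hc1
  -- choose the exponent
  obtain ⟨k, hk⟩ : ∃ k : ℕ, ∀ σ : L ≃ₐ[K] L, ¬ Fixes V A σ → V.valuation (σ (z * c ^ k)) ≠ V.valuation z := by
    let bad : Set ℕ := {k | ∃ σ : L ≃ₐ[K] L, ¬ Fixes V A σ ∧ V.valuation (σ (z * c ^ k)) = V.valuation z}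
    have hfin : bad.Finite := by
      refine Set.Finite.subset (Set.finite_iUnion (f := fun σ : {σ : L ≃ₐ[K] L // ¬ Fixes V A σ} => {k | V.valuation (σ.1 (z * c ^ k)) = V.valuation z}) fun σ => ?_) ?_
      · refine Set.Subsingleton.finite fun k₁ h₁ k₂ h₂ => ?_
        simp only [Set.mem_ofPred_eq, map_mul, map_pow] at h₁ h₂
        have h := mul_left_cancel₀ (by simpa using hz) (h₁.trans h₂.symm)
        exact (pow_right_strictAnti₀ (zero_lt_iff.mpr (by simpa using hc0)) (hc2 σ.1 σ.2)).injective h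
      · rintro k ⟨σ, h1, h2⟩; exact Set.mem_iUnion.mpr ⟨⟨σ, h1⟩, h2⟩
    obtain ⟨k, hk⟩ := hfin.exists_notMem
    exact ⟨k, fun σ h1 h2 => hk ⟨σ, h1, h2⟩⟩
  set w := z * c ^ k with hw
  have hvw : V.valuation w = V.valuation z := by rw [hw, map_mul, map_pow, hc1, one_pow, mul_one]
  have hw0 : w ≠ 0 := mul_ne_zero hz (pow_ne_zero _ hc0)
  have hwint : IsIntegral K w := IsIntegral.of_finite K w
  obtain ⟨s, hs⟩ : ∃ s : Multiset L, (minpoly K w).map (algebraMap K L) = (s.map fun r => X - C r).prod :=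
    ⟨_, (Normal.splits (inferInstance : Normal K L) w).eq_prod_roots_of_monic ((minpoly.monic hwint).map _)⟩
  have hroot : ∀ r : L, r ∈ s → aeval r (minpoly K w) = 0 := fun r hr => by
    rw [aeval_def, ← eval_map, hs, eval_multiset_prod, Multiset.map_map]
    exact Multiset.prod_eq_zero (Multiset.mem_map.mpr ⟨r, hr, by simp⟩)
  have hws : w ∈ s := by
    have h := minpoly.aeval K w
    rw [aeval_def, ← eval_map, hs, eval_multiset_prod, Multiset.map_map, Multiset.prod_eq_zero_iff, Multiset.mem_map] at h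
    obtain ⟨r, hr, hr0⟩ := h
    rwa [sub_eq_zero.mp (by simpa using hr0 : w - r = 0)]
  have hnd : s.Nodup := by
    have h := ((minpoly K w).map (algebraMap K L)).roots
    have hsep : ((minpoly K w).map (algebraMap K L)).Separable := Polynomial.Separable.map (Algebra.IsSeparable.isSeparable K w : (minpoly K w).Separable)
    have := nodup_roots hsep
    rwa [hs, roots_multiset_prod_X_sub_C] at this
  obtain ⟨s', rfl⟩ := Multiset.exists_cons_of_mem hws
  have hs' : ∀ r ∈ s', V.valuation r ≠ V.valuation w := by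
    intro r hr hval
    obtain ⟨σ, hσ⟩ := (Normal.minpoly_eq_iff_mem_orbit (F := K) (E := L) (x := r) (y := w)).mp
      (minpoly.eq_of_irreducible_of_monic (minpoly.irreducible hwint) (hroot r (Multiset.mem_cons_of_mem hr)) (minpoly.monic hwint)).symm
    have hσ' : σ w = r := hσ
    by_cases hf : Fixes V A σ
    · have : r = w := by rw [← hσ', hw, map_mul, map_pow, hfix σ hf, hcfix σ hf]
      exact (Multiset.nodup_cons.mp hnd).1 (this ▸ hr)
    · exact hk σ hf (by rw [hσ', hval, hvw])
  obtain ⟨i, hi⟩ := exists_dominant_prod V.valuation (V.valuation w) (by simpa using hw0) s' hs'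
  obtain ⟨hne, heq⟩ := value_of_unique_root V.valuation hw0 hi
  rw [← Multiset.prod_cons, ← Multiset.map_cons (f := fun r => X - C r), ← hs, coeff_map] at hne heq
  rw [coeff_map] at heq
  have hne' : (minpoly K w).coeff (i + 1) ≠ 0 := fun h => hne (by rw [h, map_zero])
  refine ⟨(minpoly K w).coeff i / (minpoly K w).coeff (i + 1), div_ne_zero (fun h => ?_) hne', ?_⟩
  · rw [h, map_zero, map_zero, mul_eq_zero] at heq
    rcases heq with h' | h'
    · exact hw0 (by simpa using h')
    · exact hne (by simpa using h')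
  · rw [map_div₀, map_div₀, ← heq, mul_div_cancel_right₀ _ ((V.valuation.ne_zero_iff).mpr hne), hvw]

include hAV hAloc in
/-- Polynomials in an element with simple residual root take values in the base. -/
theorem exists_value_aeval {f : A[X]} (hf : f.Monic) {x : L} (hx : aeval x f = 0)
    (hx' : V.valuation (aeval x (derivative f)) = 1) (p : K[X]) (hp : aeval x p ≠ 0) :
    ∃ a : K, V.valuation (aeval x p) = V.valuation (algebraMap K L a) := by
  classical
  haveI : Fintype (L ≃ₐ[K] L) := Fintype.ofFinite _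
  let S : Finset L := (Finset.univ.filter fun τ : L ≃ₐ[K] L => Fixes V A τ).image fun τ => τ x
  have hroot : ∀ r ∈ S, aeval r f = 0 ∧ V.valuation (aeval r (derivative f)) = 1 := fun r hr => by
    obtain ⟨τ, hτ, rfl⟩ := Finset.mem_image.mp hr
    refine ⟨?_, ?_⟩
    · rw [show τ x = (τ.toAlgHom.restrictScalars A) x from rfl, aeval_algHom_apply, hx, map_zero]
    · rw [show τ x = (τ.toAlgHom.restrictScalars A) x from rfl, aeval_algHom_apply]
      exact (valuation_map_eq (K := K) hAV (Finset.mem_filter.mp hτ).2 _).trans hx'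
  have hint : ∀ r ∈ S, V.valuation r ≤ 1 := fun r hr => valuation_integral_le hAV ⟨f, hf, (hroot r hr).1⟩
  have hdist : ∀ r ∈ S, ∀ r' ∈ S, V.valuation (r - r') < 1 → r = r' := by
    intro r hr r' hr' hlt
    by_contra hne
    obtain ⟨hr0, hr1⟩ := hroot r hr
    let φ : A →+* V := (algebraMap A L).codRestrict V.toSubring fun a => (V.valuation_le_one_iff _).mp (hAV a)
    let R : V := ⟨r, (V.valuation_le_one_iff _).mp (hint r hr)⟩
    let R' : V := ⟨r', (V.valuation_le_one_iff _).mp (hint r' hr')⟩
    have hev : ∀ (T : V) (g : A[X]), (((g.map φ).eval T : V) : L) = aeval (T : L) g := fun T g => by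
      rw [eval_map, aeval_def, ← ValuationSubring.subtype_apply, hom_eval₂]
      rfl
    have hR : (f.map φ).eval R = 0 := Subtype.ext ((hev R f).trans hr0)
    have hR' : (f.map φ).eval R' = 0 := Subtype.ext ((hev R' f).trans (hroot r' hr').1)
    set h := (f.map φ) /ₘ (X - C R) with hh
    have hfac : (X - C R) * h = f.map φ := mul_divByMonic_eq_iff_isRoot.mpr hR
    have h0 : h.eval R' = 0 := by
      have := congrArg (eval R') hfac
      rw [eval_mul, hR', mul_eq_zero, eval_sub, eval_X, eval_C, sub_eq_zero] at this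
      exact this.resolve_left fun e => hne (congrArg Subtype.val e).symm
    have hder : ((derivative f).map φ).eval R = h.eval R := by
      rw [← derivative_map, ← hfac, derivative_mul]
      simp
    obtain ⟨q, hq⟩ := sub_dvd_eval_sub R R' h
    rw [h0, sub_zero] at hq
    have hval : V.valuation (aeval r (derivative f)) < 1 := by
      rw [← hev R, hder, hq]
      simp only [MulMemClass.coe_mul, AddSubgroupClass.coe_sub, map_mul]
      exact mul_lt_one_of_lt_of_le hlt (V.valuation_le_one q)
    rw [hr1] at hval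
    exact lt_irrefl _ hval
  let G : L[X] := ∏ r ∈ S, (X - C r)
  have hG : G.Monic := monic_prod_of_monic _ _ fun r _ => monic_X_sub_C r
  have hxS : x ∈ S := Finset.mem_image.mpr ⟨1, Finset.mem_filter.mpr ⟨Finset.mem_univ _, fun o _ => Iff.rfl⟩, rfl⟩
  have hGx : G.eval x = 0 := by
    rw [eval_prod]; exact Finset.prod_eq_zero hxS (by simp)
  let P := p.map (algebraMap K L) %ₘ G
  have hPx : P.eval x = aeval x p := by
    rw [aeval_def, ← eval_map]
    conv_rhs => rw [← modByMonic_add_div (p.map (algebraMap K L)) G]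
    rw [eval_add, eval_mul, hGx, zero_mul, add_zero]
  have hGfix : ∀ τ : L ≃ₐ[K] L, Fixes V A τ → G.map τ.toAlgHom.toRingHom = G := by
    intro τ hτ
    have hST : S.image τ = S := by
      refine Finset.eq_of_subset_of_card_le (fun r hr => ?_) (Finset.card_image_of_injective S τ.injective).ge
      obtain ⟨r', hr', rfl⟩ := Finset.mem_image.mp hr
      obtain ⟨ρ, hρ, rfl⟩ := Finset.mem_image.mp hr'
      refine Finset.mem_image.mpr ⟨τ * ρ, Finset.mem_filter.mpr ⟨Finset.mem_univ _, fun o ho => ?_⟩, rfl⟩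
      exact ((Finset.mem_filter.mp hρ).2 o ho).trans (hτ (ρ o) (ho.map (ρ.toAlgHom.restrictScalars A)))
    conv_rhs => rw [show G = ∏ r ∈ S.image τ, (X - C r) by rw [hST]]
    rw [Finset.prod_image τ.injective.injOn, Polynomial.map_prod]
    exact Finset.prod_congr rfl fun r _ => by simp
  have hPfix : ∀ τ : L ≃ₐ[K] L, Fixes V A τ → P.map τ.toAlgHom.toRingHom = P := fun τ hτ => by
    rw [map_modByMonic _ hG, hGfix τ hτ, Polynomial.map_map]
    congr 2
    exact RingHom.ext fun a => τ.commutes a
  have hP0 : P ≠ 0 := fun h => hp (by rw [← hPx, h, eval_zero])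
  obtain ⟨i, hi, hmax⟩ := P.support.exists_max_image (fun j => V.valuation (P.coeff j)) (support_nonempty.mpr hP0)
  have hci : P.coeff i ≠ 0 := mem_support_iff.mp hi
  obtain ⟨a, -, ha⟩ := exists_value_of_fixed (K := K) hAV hAloc (P.coeff i) hci fun τ hτ => by
    have h := congrArg (coeff · i) (hPfix τ hτ)
    rw [coeff_map] at h
    exact h
  refine ⟨a, ?_⟩
  rw [← ha, ← hPx]
  have hle : ∀ j, V.valuation (P.coeff j / P.coeff i) ≤ 1 := fun j => by
    rw [map_div₀, div_le_one₀ (zero_lt_iff.mpr (by simpa using hci))]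
    by_cases hj : j ∈ P.support
    · exact hmax j hj
    · rw [notMem_support_iff.mp hj, map_zero]; exact zero_le
  let P₁ := C (P.coeff i)⁻¹ * P
  have hmem : P₁ ∈ lifts V.subtype := by
    rw [lifts_iff_coeff_lifts]
    intro j
    rw [coeff_C_mul, ← div_eq_inv_mul]
    exact ⟨⟨_, (V.valuation_le_one_iff _).mp (hle j)⟩, rfl⟩
  obtain ⟨P₂, hP₂⟩ := hmem
  rw [coe_mapRingHom] at hP₂
  have hval : V.valuation (P₁.eval x) = 1 := by
    have hxV : x ∈ V := (V.valuation_le_one_iff _).mp (hint x hxS)
    have hle1 : V.valuation (P₁.eval x) ≤ 1 := by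
      rw [← hP₂, show x = V.subtype ⟨x, hxV⟩ from rfl, eval_map_apply]
      exact V.valuation_le_one _
    refine hle1.eq_of_not_lt fun hlt => ?_
    have hall : ∀ r ∈ S, V.valuation (P₁.eval r) < 1 := by
      intro r hr
      obtain ⟨τ, hτ, rfl⟩ := Finset.mem_image.mp hr
      have hτ' := (Finset.mem_filter.mp hτ).2
      have : P₁.map τ.toAlgHom.toRingHom = P₁ := by
        rw [Polynomial.map_mul, map_C, hPfix τ hτ', map_inv₀]
        have h := congrArg (coeff · i) (hPfix τ hτ')
        simp only [coeff_map] at h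
        rw [h]
      rw [← this, show τ x = τ.toAlgHom.toRingHom x from rfl, eval_map_apply]
      exact lt_of_eq_of_lt (valuation_map_eq (K := K) hAV hτ' _) hlt
    let res := IsLocalRing.residue V
    have hcoeff : ((P₂.map res).coeff i) = 1 := by
      have : P₂.coeff i = 1 := Subtype.ext (by
        have := congrArg (coeff · i) hP₂
        simp only [coeff_map, P₁, coeff_C_mul, inv_mul_cancel₀ hci] at this
        exact this)
      rw [coeff_map, this, map_one]
    have hz : P₂.map res = 0 := by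
      let T : Finset (IsLocalRing.ResidueField V) := S.attach.image fun r => res ⟨r.1, (V.valuation_le_one_iff _).mp (hint r.1 r.2)⟩
      have hT : T.card = S.card := by
        rw [Finset.card_image_of_injective, Finset.card_attach]
        rintro ⟨r, hr⟩ ⟨r', hr'⟩ h
        simp only [res] at h
        rw [← sub_eq_zero, ← map_sub, IsLocalRing.residue_eq_zero_iff, V.valuation_lt_one_iff] at h
        exact Subtype.ext (hdist r hr r' hr' h)
      refine eq_zero_of_natDegree_lt_card_of_eval_eq_zero' _ T (fun t ht => ?_) ?_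
      · obtain ⟨⟨r, hr⟩, -, rfl⟩ := Finset.mem_image.mp ht
        rw [eval_map_apply, IsLocalRing.residue_eq_zero_iff, V.valuation_lt_one_iff]
        refine lt_of_eq_of_lt ?_ (hall r hr)
        rw [← hP₂]
        exact congrArg V.valuation (eval_map_apply V.subtype (p := P₂) ⟨r, (V.valuation_le_one_iff _).mp (hint r hr)⟩).symm
      · refine natDegree_map_le.trans_lt ?_
        rw [← natDegree_map_eq_of_injective V.subtype_injective P₂, hP₂, hT, natDegree_C_mul (inv_ne_zero hci)]
        have h1 : G.natDegree = S.card := natDegree_finsetProd_X_sub_C_eq_card S id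
        rw [← h1]
        refine natDegree_modByMonic_lt _ hG fun h1' => ?_
        have := Finset.card_pos.mpr ⟨x, hxS⟩
        rw [← h1, h1', natDegree_one] at this
        omega
    rw [hz, coeff_zero] at hcoeff
    exact zero_ne_one hcoeff
  rw [eval_mul, eval_C, map_mul, map_inv₀] at hval
  exact ((inv_mul_eq_one₀ (by simpa using hci)).mp hval).symm

end Galois

end Groth.Agent.EtValLib
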