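import Mathlib
import Groth.Agent.S14676
import Groth.Agent.Adic.Basic

/-!
# Approximating a generator of a finite separable extension of a complete discretely valued field
-/

namespace Groth.Agent.EtValLib.KrasnerDescent

open Polynomial IsLocalRing

universe u

variable {R Kh M : Type u} [CommRing R] [IsDomain R] [IsDiscreteValuationRing R]
  [Field Kh] [Algebra R Kh] [IsFractionRing R Kh]
  [Field M] [Algebra Kh M] [Algebra R M] [IsScalarTower R Kh M]

lemma exists_pow_mul_mem {π : R} (hπ : Irreducible π) (k : Kh) :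
    ∃ (d : ℕ) (r : R), algebraMap R Kh π ^ d * k = algebraMap R Kh r := by
  obtain ⟨x, y, hy, rfl⟩ := IsFractionRing.div_surjective R k
  have hy0 : y ≠ 0 := nonZeroDivisors.ne_zero hy
  obtain ⟨d, u, hd⟩ := IsDiscreteValuationRing.eq_unit_mul_pow_irreducible hy0 hπ
  refine ⟨d, x * ↑u⁻¹, ?_⟩
  have hu : algebraMap R Kh (u : R) ≠ 0 := (IsUnit.map _ u.isUnit).ne_zero
  have hp : algebraMap R Kh π ≠ 0 :=
    (map_ne_zero_iff _ (IsFractionRing.injective R Kh)).2 hπ.ne_zero
  rw [hd, map_mul, map_mul, map_pow, map_units_inv]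
  field_simp

lemma exists_pow_mul_mem_adjoin {π : R} (hπ : Irreducible π) (θ : M)
    (hθ : Algebra.adjoin Kh {θ} = ⊤) (x : M) :
    ∃ d : ℕ, algebraMap R M π ^ d * x ∈ Algebra.adjoin R {θ} := by
  have hx : x ∈ Algebra.adjoin Kh {θ} := hθ ▸ Algebra.mem_top
  induction hx using Algebra.adjoin_induction with
  | mem y hy =>
    exact ⟨0, by rw [pow_zero, one_mul]; exact Algebra.subset_adjoin hy⟩
  | algebraMap k =>
    obtain ⟨d, r, hr⟩ := exists_pow_mul_mem hπ k
    refine ⟨d, ?_⟩
    rw [IsScalarTower.algebraMap_apply R Kh M π, ← map_pow, ← map_mul, hr,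
      ← IsScalarTower.algebraMap_apply]
    exact Subalgebra.algebraMap_mem _ r
  | add y z _ _ hy hz =>
    obtain ⟨d, hd⟩ := hy
    obtain ⟨e, he⟩ := hz
    refine ⟨d + e, ?_⟩
    have hp : algebraMap R M π ∈ Algebra.adjoin R {θ} := Subalgebra.algebraMap_mem _ _
    have : algebraMap R M π ^ (d + e) * (y + z) = algebraMap R M π ^ e * (algebraMap R M π ^ d * y)
        + algebraMap R M π ^ d * (algebraMap R M π ^ e * z) := by ring
    rw [this]
    exact add_mem (mul_mem (pow_mem hp _) hd) (mul_mem (pow_mem hp _) he)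
  | mul y z _ _ hy hz =>
    obtain ⟨d, hd⟩ := hy
    obtain ⟨e, he⟩ := hz
    refine ⟨d + e, ?_⟩
    have : algebraMap R M π ^ (d + e) * (y * z) =
        (algebraMap R M π ^ d * y) * (algebraMap R M π ^ e * z) := by ring
    rw [this]
    exact mul_mem hd he

/-- A finite separable extension of the fraction field of a complete discrete valuation ring `R` is
generated by a root of a polynomial with coefficients in any dense subring `A`. -/
theorem exists_generator [IsAdicComplete (maximalIdeal R) R] [FiniteDimensional Kh M]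
    [Algebra.IsSeparable Kh M] {A : Type u} [CommRing A] [Algebra A R]
    (happ : ∀ (r : R) (N : ℕ), ∃ a : A, algebraMap A R a - r ∈ maximalIdeal R ^ N) :
    ∃ (g : A[X]) (x : M), g.Monic ∧
      g.map ((algebraMap R Kh).comp (algebraMap A R)) = minpoly Kh x ∧
      Algebra.adjoin Kh {x} = ⊤ := by
  classical
  obtain ⟨π, hπ⟩ := IsDiscreteValuationRing.exists_irreducible R
  have hm : maximalIdeal R = Ideal.span {π} := hπ.maximalIdeal_eq
  -- an integral primitive element
  obtain ⟨α, hα⟩ := Field.exists_primitive_element Kh M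
  have halg : IsAlgebraic R α :=
    (IsFractionRing.isAlgebraic_iff R Kh M).2 (Algebra.IsAlgebraic.isAlgebraic α)
  obtain ⟨a, ha0, hθi⟩ := halg.exists_integral_multiple
  set θ : M := a • α with hθdef
  have hθKi : IsIntegral Kh θ := IsIntegral.of_finite Kh θ
  have ha' : algebraMap R Kh a ≠ 0 := (map_ne_zero_iff _ (IsFractionRing.injective R Kh)).2 ha0
  have hθgen : Algebra.adjoin Kh {θ} = ⊤ := by
    have h1 : IntermediateField.adjoin Kh {θ} = ⊤ := by
      rw [eq_top_iff, ← hα, IntermediateField.adjoin_simple_le_iff]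
      have : α = algebraMap Kh M (algebraMap R Kh a)⁻¹ * θ := by
        rw [hθdef, Algebra.smul_def, IsScalarTower.algebraMap_apply R Kh M, ← mul_assoc, ← map_mul,
          inv_mul_cancel₀ ha', map_one, one_mul]
      rw [this]
      exact mul_mem (IntermediateField.algebraMap_mem _ _) (IntermediateField.mem_adjoin_simple_self Kh θ)
    rw [← IntermediateField.adjoin_simple_toSubalgebra_of_isAlgebraic hθKi.isAlgebraic, h1,
      IntermediateField.top_toSubalgebra]
  set f := minpoly R θ with hfdef
  have hfm : f.Monic := minpoly.monic hθi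
  have hfK : f.map (algebraMap R Kh) = minpoly Kh θ :=
    (minpoly.isIntegrallyClosed_eq_field_fractions' Kh hθi).symm
  set n := f.natDegree with hn
  -- the order `B` generated by `θ`
  set B := Algebra.adjoin R {θ} with hB
  have hBfin : Module.Finite R B := Module.Finite.iff_fg.2 hθi.fg_adjoin_singleton
  have hBc : IsAdicComplete (maximalIdeal R) B := Adic.isAdicComplete_of_finite _
  set I : Ideal B := (maximalIdeal R).map (algebraMap R B) with hI
  have hBI : IsAdicComplete I B := (IsAdicComplete.map_algebraMap_iff _ _).2 hBc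
  let Θ : B := ⟨θ, Algebra.self_mem_adjoin_singleton R θ⟩
  set p : B := algebraMap R B π with hp
  have hpI : p ∈ I := Ideal.mem_map_of_mem _ (hm ▸ Ideal.mem_span_singleton_self π)
  -- the different
  have hsep : (minpoly Kh θ).Separable := Algebra.IsSeparable.isSeparable Kh θ
  have hf' : aeval θ f.derivative ≠ 0 := by
    have := hsep.aeval_derivative_ne_zero (minpoly.aeval Kh θ)
    rwa [← hfK, derivative_map, aeval_map_algebraMap] at this
  obtain ⟨d, hd⟩ := exists_pow_mul_mem_adjoin hπ θ hθgen (aeval θ f.derivative)⁻¹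
  let w : B := ⟨_, hd⟩
  have hw : aeval Θ f.derivative * w = p ^ d := by
    apply Subtype.ext
    rw [MulMemClass.coe_mul, ← Subalgebra.aeval_coe, SubmonoidClass.coe_pow]
    change aeval θ f.derivative * (algebraMap R M π ^ d * (aeval θ f.derivative)⁻¹) = algebraMap R M π ^ d
    field_simp
  have hfΘ : aeval Θ f = 0 := by
    apply Subtype.ext
    rw [← Subalgebra.aeval_coe]
    exact minpoly.aeval R θ
  -- the approximating polynomial
  choose c hc using fun i ↦ happ (f.coeff i) (2 * d + 1)
  let g : A[X] := X ^ n + ∑ i ∈ Finset.range n, C (c i) * X ^ i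
  have hglow : (∑ i ∈ Finset.range n, C (c i) * X ^ i : A[X]).degree < (n : ℕ) := by
    refine (degree_sum_le _ _).trans_lt ((Finset.sup_lt_iff (WithBot.bot_lt_coe n)).2 fun i hi ↦ ?_)
    exact (degree_C_mul_X_pow_le _ _).trans_lt (WithBot.coe_lt_coe.2 (Finset.mem_range.1 hi))
  have hgm : g.Monic := monic_X_pow_add hglow
  have hcoef : C (π ^ (2 * d + 1)) ∣ g.map (algebraMap A R) - f := by
    rw [C_dvd_iff_dvd_coeff]
    intro i
    rw [← Ideal.mem_span_singleton, ← Ideal.span_singleton_pow, ← hm]
    rw [coeff_sub, coeff_map]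
    rcases lt_trichotomy i n with h | h | h
    · have : g.coeff i = c i := by
        simp [g, coeff_X_pow, h.ne, finsetSum_coeff, h]
      rw [this]
      exact hc i
    · subst h
      have : g.coeff n = 1 := by
        simp [g, finsetSum_coeff]
      rw [this, map_one, hn, hfm.coeff_natDegree, sub_self]
      exact zero_mem _
    · have : g.coeff i = 0 := by
        simp [g, coeff_X_pow, h.ne', finsetSum_coeff, h.not_gt]
      rw [this, map_zero, coeff_eq_zero_of_natDegree_lt h, sub_self]
      exact zero_mem _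
  obtain ⟨q, hq⟩ := hcoef
  set gR := g.map (algebraMap A R) with hgR
  have hgR' : gR = f + C (π ^ (2 * d + 1)) * q := by rw [← hq]; ring
  have hg0 : aeval Θ gR = p ^ (2 * d + 1) * aeval Θ q := by
    rw [hgR', map_add, map_mul, aeval_C, hfΘ, zero_add, map_pow]
  have hg1 : aeval Θ gR.derivative = aeval Θ f.derivative + p ^ (2 * d + 1) * aeval Θ q.derivative := by
    rw [hgR', derivative_add, derivative_C_mul, map_add, map_mul, aeval_C, map_pow]
  have hunit : IsUnit (1 + p ^ (d + 1) * (aeval Θ q.derivative * w)) := by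
    have h1 : p ^ (d + 1) * (aeval Θ q.derivative * w) ∈ Ideal.jacobson (⊥ : Ideal B) :=
      IsAdicComplete.le_jacobson_bot I (I.mul_mem_right _ (I.pow_mem_of_mem hpI _ (Nat.succ_pos d)))
    have := Ideal.mem_jacobson_bot.1 h1 1
    rwa [mul_one, add_comm] at this
  obtain ⟨v, hv⟩ := hunit
  set w' : B := w * ↑v⁻¹ with hw'
  have hw'2 : aeval Θ gR.derivative * w' = p ^ d := by
    rw [hw', hg1, ← mul_assoc, add_mul, hw]
    have : p ^ d + p ^ (2 * d + 1) * aeval Θ q.derivative * w
        = p ^ d * (1 + p ^ (d + 1) * (aeval Θ q.derivative * w)) := by ring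
    rw [this, ← hv, mul_assoc, Units.mul_inv, mul_one]
  -- Taylor expansion
  set G : B[X] := gR.map (algebraMap R B) with hG
  have hGe : ∀ b : B, G.eval b = aeval b gR := fun b ↦ by rw [hG, eval_map, aeval_def]
  obtain ⟨H, hH⟩ : X ^ 2 ∣ taylor Θ G - C (G.eval Θ) - C (G.derivative.eval Θ) * X := by
    rw [X_pow_dvd_iff]
    intro i hi
    interval_cases i
    · simp [taylor_coeff_zero]
    · simp [taylor_coeff_one]
  have hexp : ∀ z : B, G.eval (Θ + z) = G.eval Θ + G.derivative.eval Θ * z + z ^ 2 * H.eval z := by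
    intro z
    have := congrArg (eval z) hH
    simp only [eval_sub, eval_mul, eval_C, eval_X, eval_pow, taylor_eval] at this
    rw [add_comm Θ z]
    linear_combination this
  set P : B[X] := C (w' * aeval Θ q) + X + C (p * w') * X ^ 2 * H.comp (C (p ^ (d + 1)) * X) with hP
  have hP0 : P.eval (-(w' * aeval Θ q)) ∈ I := by
    simp only [hP, eval_add, eval_mul, eval_C, eval_X, add_neg_cancel, zero_add]
    exact I.mul_mem_right _ (I.mul_mem_right _ (I.mul_mem_right _ hpI))
  have hP1 : IsUnit (Ideal.Quotient.mk I (P.derivative.eval (-(w' * aeval Θ q)))) := by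
    have : P.derivative.eval (-(w' * aeval Θ q)) - 1 ∈ I := by
      simp only [hP, derivative_add, derivative_C, derivative_X, zero_add, mul_assoc (C (p * w')),
        derivative_C_mul, eval_add, eval_one, eval_mul, eval_C, add_sub_cancel_left]
      exact I.mul_mem_right _ (I.mul_mem_right _ hpI)
    rw [← Ideal.Quotient.mk_eq_mk_iff_sub_mem] at this
    rw [this, map_one]
    exact isUnit_one
  obtain ⟨y, hy, -⟩ := S14676.exists_root B I P _ hP0 hP1
  set Θ' : B := Θ + p ^ (d + 1) * y with hΘ'
  have hroot : aeval Θ' gR = 0 := by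
    rw [← hGe, hΘ', hexp, hGe, hg0]
    have hGd : G.derivative.eval Θ = aeval Θ gR.derivative := by
      rw [hG, derivative_map, eval_map, aeval_def]
    rw [hGd]
    have hy' := hy.eq_zero
    simp only [hP, eval_add, eval_mul, eval_C, eval_X, eval_pow, eval_comp] at hy'
    have hkey : p ^ (2 * d + 1) * aeval Θ q + aeval Θ gR.derivative * (p ^ (d + 1) * y)
        + (p ^ (d + 1) * y) ^ 2 * H.eval (p ^ (d + 1) * y)
        = p ^ (d + 1) * aeval Θ gR.derivative *
          (w' * aeval Θ q + y + p * w' * y ^ 2 * H.eval (p ^ (d + 1) * y)) := by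
      linear_combination (-(p ^ (d + 1) * aeval Θ q) - p ^ (d + 2) * y ^ 2 * H.eval (p ^ (d + 1) * y)) * hw'2
    rw [hkey, hy', mul_zero]
  set x : M := (Θ' : M) with hx
  have hxroot : aeval x gR = 0 := by
    rw [hx, Subalgebra.aeval_coe, hroot]; rfl
  -- `x` generates the same order
  have hle : Subalgebra.toSubmodule B ≤ Subalgebra.toSubmodule (Algebra.adjoin R {x}) := by
    refine Submodule.le_of_le_smul_of_le_jacobson_bot (I := maximalIdeal R) hθi.fg_adjoin_singleton
      (maximalIdeal_le_jacobson ⊥) ?_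
    intro z hz
    rw [hB, Subalgebra.mem_toSubmodule, Algebra.adjoin_singleton_eq_range_aeval] at hz
    obtain ⟨r, rfl⟩ := hz
    obtain ⟨b, hb⟩ := sub_dvd_eval_sub Θ' Θ (r.map (algebraMap R B))
    rw [eval_map, eval_map, ← aeval_def, ← aeval_def, hΘ', add_sub_cancel_left, ← hΘ'] at hb
    have hb' := congrArg (fun e : B ↦ (e : M)) hb
    simp only [AddSubgroupClass.coe_sub, MulMemClass.coe_mul, SubmonoidClass.coe_pow,
      ← Subalgebra.aeval_coe] at hb'
    change aeval θ r ∈ _
    have hz' : aeval θ r = aeval x r - (p : M) ^ (d + 1) * y * b := by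
      rw [← hb', hx]
      exact (sub_sub_cancel _ _).symm
    rw [hz']
    refine sub_mem (Submodule.mem_sup_left ?_) (Submodule.mem_sup_right ?_)
    · rw [Subalgebra.mem_toSubmodule, Algebra.adjoin_singleton_eq_range_aeval]
      exact ⟨r, rfl⟩
    · have : (p : M) ^ (d + 1) * y * b = π • ((p ^ d * y * b : B) : M) := by
        rw [Algebra.smul_def]
        simp only [MulMemClass.coe_mul, SubmonoidClass.coe_pow, hp, Subalgebra.coe_algebraMap]
        ring
      rw [this]
      exact Submodule.smul_mem_smul (hm ▸ Ideal.mem_span_singleton_self π) (p ^ d * y * b).2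
  have hgen : Algebra.adjoin Kh {x} = ⊤ := by
    refine top_le_iff.1 (hθgen ▸ Algebra.adjoin_le ?_)
    rintro z (rfl : z = θ)
    have h1 : θ ∈ Algebra.adjoin R {x} := hle (Algebra.self_mem_adjoin_singleton R θ)
    exact (Algebra.adjoin_le (S := (Algebra.adjoin Kh {x}).restrictScalars R)
      (Set.singleton_subset_iff.2 (Algebra.self_mem_adjoin_singleton Kh x))) h1
  refine ⟨g, x, hgm, ?_, hgen⟩
  rw [← Polynomial.map_map, ← hgR]
  set gK := gR.map (algebraMap R Kh) with hgK
  have hgKm : gK.Monic := (hgm.map _).map _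
  have hxK : aeval x gK = 0 := by rw [hgK, aeval_map_algebraMap, hxroot]
  have hxi : IsIntegral Kh x := IsIntegral.of_finite Kh x
  have hdeg : ∀ z : M, Algebra.adjoin Kh {z} = ⊤ → IsIntegral Kh z →
      (minpoly Kh z).natDegree = Module.finrank Kh M := by
    intro z hz hzi
    rw [← IntermediateField.adjoin.finrank hzi]
    have : IntermediateField.adjoin Kh {z} = ⊤ := by
      rw [eq_top_iff]
      intro t _
      exact IntermediateField.algebra_adjoin_le_adjoin Kh {z} (hz ▸ Algebra.mem_top)
    rw [this, IntermediateField.finrank_top']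
  refine Polynomial.eq_of_monic_of_dvd_of_natDegree_le (minpoly.monic hxi) hgKm
    (minpoly.dvd Kh x hxK) ?_
  rw [hdeg x hgen hxi, ← hdeg θ hθgen hθKi, ← hfK, hgK, hgR]
  rw [(hgm.map (algebraMap A R)).natDegree_map, hgm.natDegree_map, hfm.natDegree_map]
  refine le_of_eq ?_
  have : Nontrivial A := (algebraMap A R).domain_nontrivial
  refine natDegree_eq_of_degree_eq_some ?_
  rw [degree_add_eq_left_of_degree_lt (by rwa [degree_X_pow]), degree_X_pow]

end Groth.Agent.EtValLib.KrasnerDescent
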